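import Mathlib
import Cfsg.Agent.PLocal.AmbSyl
import Cfsg.Agent.PLocal.CommMod
import Cfsg.Agent.PLocal.Quasisimple
import Cfsg.Agent.Transfer.Focal
import Cfsg.Agent.Grp.CommPow
import Cfsg.Agent.FT.PRank

/-! Sylow subgroups of central type over a central cyclic subgroup: perfect subgroups they
normalise. -/

set_option autoImplicit false

namespace Cfsg.Agent.FRS

open Subgroup Cfsg Cfsg.Agent.PLocal Cfsg.Agent.PLocal.Amb
open Cfsg.Agent.PLocal.CommMod (centMod mem_centMod le_centMod mem_centMod_of_normal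
  le_centMod_of_normal)
open scoped commutatorElement

variable {G : Type*} [Group G] {p : ℕ}

/-- the largest perfect subgroup of `K` -/
def res (K : Subgroup G) : Subgroup G := sSup {P | P ≤ K ∧ ⁅P, P⁆ = P}

theorem res_le (K : Subgroup G) : res K ≤ K := sSup_le fun _ h => h.1

theorem le_res {P K : Subgroup G} (h : P ≤ K) (hP : ⁅P, P⁆ = P) : P ≤ res K := le_sSup ⟨h, hP⟩

theorem res_perf (K : Subgroup G) : ⁅res K, res K⁆ = res K :=
  le_antisymm (commutator_le_self _) (sSup_le fun _ h =>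
    h.2.ge.trans (commutator_mono (le_res h.1 h.2) (le_res h.1 h.2)))

theorem norm_res {T K : Subgroup G} (h : T ≤ 𝐍[K]) : T ≤ 𝐍[res K] :=
  le_normalizer_iff_cj.2 fun g hg => le_res (cj_le_of_mem_normalizer (res_le K) (h hg))
    (by rw [commutator_cj, res_perf])

theorem le_res_sup [Finite G] {J H O : Subgroup G} (hp : J ≤ ⁅J, J⁆ ⊔ O) (hn : H ≤ 𝐍[O])
    (h : J ≤ H ⊔ O) : J ≤ res H ⊔ O := by
  obtain ⟨P, hP, hmin⟩ := (Set.toFinite {P : Subgroup G | P ≤ H ∧ J ≤ P ⊔ O}).exists_minimal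
    ⟨H, le_rfl, h⟩
  refine hP.2.trans (sup_le_sup_right (le_res hP.1 (le_antisymm (commutator_le_self P)
    (hmin ⟨(commutator_le_self P).trans hP.1, hp.trans (sup_le ((commutator_mono hP.2 hP.2).trans
      ?_) le_sup_right)⟩ (commutator_le_self P)))) O)
  have h1 : P ≤ 𝐍[O] := hP.1.trans hn
  have h2 : P ≤ 𝐍[⁅P, P⁆ ⊔ O] := le_normalizer_sup (normalizer_commutator_ge_left _ _) h1
  have h3 : O ≤ 𝐍[⁅P, P⁆ ⊔ O] := le_sup_right.trans le_normalizer
  exact CommMod.commutator_sup_le h2 h3 (CommMod.commutator_sup_le' h2 h3 le_sup_left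
    ((le_normalizer_iff_commutator_le_right.1 h1).trans le_sup_right))
    ((le_normalizer_iff_commutator_le_left.1 (sup_le h1 le_normalizer)).trans le_sup_right)

theorem gen {A B H : Subgroup G} (hp : (A.relIndex B).Prime) (hAB : A ≤ B) (hA : A ≤ H) {x : G}
    (hx : x ∈ H) (hxB : x ∈ B) (hxA : x ∉ A) : B ≤ H := by
  have h := relIndex_mul_relIndex A (B ⊓ H) B (le_inf hAB hA) inf_le_left
  rcases (Nat.dvd_prime hp).1 (Dvd.intro _ h) with h3 | h3
  · exact absurd (relIndex_eq_one.1 h3 ⟨hxB, hx⟩) hxA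
  · rw [h3] at h
    have h4 := (Nat.mul_eq_left hp.ne_zero).1 h
    exact (relIndex_eq_one.1 h4).trans inf_le_right

theorem ab {A B : Subgroup G} (hp : (A.relIndex B).Prime) (hAB : A ≤ B) (hA : A ≤ 𝐂[B]) :
    B ≤ 𝐂[B] := fun x hx => by
  by_cases hxA : x ∈ A
  · exact hA hxA
  · have h : B ≤ centralizer {x} := gen hp hAB
      (fun a ha => mem_centralizer_singleton_iff.2 (hA ha x hx).symm)
      (mem_centralizer_singleton_iff.2 rfl) hx hxA
    exact fun b hb => mem_centralizer_singleton_iff.1 (h hb)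

theorem pow_mem_of_norm {A B : Subgroup G} (h : B ≤ 𝐍[A]) {x : G} (hx : x ∈ B) :
    x ^ A.relIndex B ∈ A := by
  have := normal_subgroupOf' h
  exact pow_index_mem (A.subgroupOf B) ⟨x, hx⟩

theorem ex [Fact p.Prime] [Finite G] {B : Subgroup G} (hB : IsPGroup p B) (A : Subgroup G) :
    ∃ k, A.relIndex B = p ^ k := hB.index _

theorem nrm [hp : Fact p.Prime] [Finite G] {A B : Subgroup G} (hB : IsPGroup p B) (hAB : A ≤ B)
    (h : A.relIndex B = p) : B ≤ 𝐍[A] := by
  have hlt : A < B := lt_of_le_of_ne hAB fun e => by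
    rw [e, relIndex_self] at h; exact hp.out.one_lt.ne h
  obtain ⟨x, hx, hxA⟩ := SetLike.exists_of_lt (lt_inf_normalizer hB hlt)
  exact gen (h ▸ hp.out) hAB le_normalizer hx.2 hx.1 hxA

theorem cyc_cent {P S : Subgroup G} [IsCyclic S] (hP : ⁅P, P⁆ = P) (hS : P ≤ 𝐍[S]) :
    P ≤ 𝐂[S] := by
  have : IsMulCommutative (MulAut S) := ⟨⟨fun a b => by
    apply (IsCyclic.mulAutMulEquiv S).injective
    rw [map_mul, map_mul, mul_comm]⟩⟩
  rw [← hP, Subgroup.commutator_le]
  intro a ha b hb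
  have h1 : ⁅(⟨a, hS ha⟩ : Subgroup.normalizer (S : Set G)), ⟨b, hS hb⟩⁆ ∈
      S.normalizerMonoidHom.ker := by
    rw [MonoidHom.mem_ker, map_commutatorElement, commutatorElement_eq_one_iff_mul_comm]
    exact mul_comm' _ _
  rw [Subgroup.normalizerMonoidHom_ker, Subgroup.mem_subgroupOf] at h1
  exact h1

theorem perf_subgroupOf {Y M : Subgroup G} (hY : ⁅Y, Y⁆ = Y) (h : Y ≤ M) :
    ⁅Y.subgroupOf M, Y.subgroupOf M⁆ = Y.subgroupOf M := by
  apply map_injective M.subtype_injective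
  rw [map_commutator, map_subgroupOf_of_le h, hY]

theorem cent_of_perf {Y A B : Subgroup G} (hY : ⁅Y, Y⁆ = Y) (h : ⁅A, Y⁆ ≤ B) (hc : Y ≤ 𝐂[B]) :
    Y ≤ 𝐂[A] := by
  rw [le_centralizer_iff, ← commutator_eq_bot_iff_le_centralizer] at hc ⊢
  exact commutator_eq_bot_of_perfect hY (eq_bot_iff.2 ((commutator_mono h le_rfl).trans hc.le))

/-- a perfect group centralising a normal subgroup of prime index centralises the group -/
theorem step [Finite G] {Y A B : Subgroup G} (hY : ⁅Y, Y⁆ = Y) (hA : Y ≤ 𝐍[A])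
    (hi : (B.relIndex A).Prime) (hn : A ≤ 𝐍[B]) (hc : Y ≤ 𝐂[B]) : Y ≤ 𝐂[A] := by
  have hYM : Y ≤ 𝐍[B] := hc.trans (centralizer_le_normalizer' B)
  have := normal_subgroupOf' (le_refl 𝐍[B])
  let φ := QuotientGroup.mk' (B.subgroupOf 𝐍[B])
  have := Fact.mk hi
  have : IsCyclic ((A.subgroupOf 𝐍[B]).map φ) := isCyclic_of_prime_card (p := B.relIndex A) (by
    rw [← relIndex_ker, QuotientGroup.ker_mk', relIndex_subgroupOf hn])
  have h1 := cyc_cent (P := (Y.subgroupOf 𝐍[B]).map φ) (S := (A.subgroupOf 𝐍[B]).map φ)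
    (by rw [← map_commutator, perf_subgroupOf hY hYM])
    ((map_mono (fun y hy => by
      rw [normalizer_eq_subgroupOf, map_subgroupOf_of_le hn]; exact hA hy)).trans
      (le_normalizer_map φ))
  refine cent_of_perf hY (commutator_le.2 fun a ha y hy => ?_) hc
  have h2 := h1 (mem_map_of_mem φ (x := ⟨y, hYM hy⟩) hy) _ (mem_map_of_mem φ (x := ⟨a, hn ha⟩) ha)
  have h3 : ⁅(⟨a, hn ha⟩ : 𝐍[B]), ⟨y, hYM hy⟩⁆ ∈ φ.ker := by
    rw [MonoidHom.mem_ker, map_commutatorElement, commutatorElement_eq_one_iff_mul_comm]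
    exact h2
  rwa [QuotientGroup.ker_mk'] at h3

theorem hom [Finite G] (hp : p ≠ 0) {Z K : Subgroup G} (hZ : Z ≤ center G) [IsCyclic Z] {x : G}
    (h : ∀ k ∈ K, ⁅x, k⁆ ∈ Z) (hx : x ^ p ∈ 𝐂[K]) : (centralizer {x}).relIndex K ≤ p := by
  let Ω : Subgroup G :=
    { carrier := {z | z ∈ Z ∧ z ^ p = 1}
      one_mem' := ⟨one_mem _, one_pow _⟩
      mul_mem' := fun {a b} ha hb => ⟨mul_mem ha.1 hb.1, by
        rw [Commute.mul_pow (mem_center_iff.1 (hZ hb.1) a), ha.2, hb.2, one_mul]⟩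
      inv_mem' := fun {a} ha => ⟨inv_mem ha.1, by rw [inv_pow, ha.2, inv_one]⟩ }
  have : IsCyclic Ω := isCyclic_of_le (fun _ h => h.1 : Ω ≤ Z)
  refine (Grp.PChain.relIndex_centralizer_le K Ω fun k hk => ⟨h k hk, ?_⟩).trans
    (Nat.le_of_dvd (Nat.pos_of_ne_zero hp) ?_)
  · rw [← Grp.CommPow.commutator_pow_left (mem_center_iff.1 (hZ (h k hk)) x).symm,
      commutatorElement_eq_one_iff_mul_comm]
    exact (hx k hk).symm
  · rw [← IsCyclic.exponent_eq_card]
    exact Monoid.exponent_dvd_of_forall_pow_eq_one fun z => Subtype.ext z.2.2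

/-- Sylow subgroup with centre the central cyclic `Z`, abelian or small modulo `Z` -/
structure CT (p : ℕ) (T Z : Subgroup G) : Prop where
  syl : IsSyl p T ⊤
  le : Z ≤ T
  cen : Z ≤ center G
  cyc : IsCyclic Z
  c1 : T ⊓ 𝐂[T] ≤ Z
  alt : ⁅T, T⁆ ≤ Z ∨ (Z.relIndex T = p ^ 4 ∧ ∀ A ≤ T, A ≤ 𝐂[A] → Z.relIndex A ≤ p ^ 2)

variable {T Z : Subgroup G}

theorem CT.normal (h : CT p T Z) : Z.Normal := ⟨fun z hz g => by
  rwa [mem_center_iff.1 (h.cen hz) g, mul_inv_cancel_right]⟩

theorem CT.le_cent (h : CT p T Z) (A : Subgroup G) : A ≤ 𝐂[Z] :=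
  fun a _ _ hz => (mem_center_iff.1 (h.cen hz) a).symm

theorem CT.cent (h : CT p T Z) (A : Subgroup G) : Z ≤ 𝐂[A] :=
  fun _ hz a _ => mem_center_iff.1 (h.cen hz) a

variable [Finite G] [hp : Fact p.Prime]

theorem syl_inf (h : IsSyl p T ⊤) {D : Subgroup G} (hn : T ≤ 𝐍[D]) : IsSyl p (T ⊓ D) D :=
  (h.mono hn le_top).inf_of_le le_normalizer le_rfl

theorem CT.noD (h : CT p T Z) {D : Subgroup G} (hD : ⁅D, D⁆ = D) (hn : T ≤ 𝐍[D])
    (hab : T ⊓ D ≤ 𝐂[T ⊓ D]) : T ⊓ D = ⊥ := by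
  by_contra hne
  obtain ⟨⟨z, hz, hzc⟩, hz1⟩ := (Subgroup.ne_bot_iff_exists_ne_one.1 (inf_centralizer_ne_bot
    h.syl.pgrp (h.syl.pgrp.to_le inf_le_left) (le_normalizer_inf le_normalizer hn) hne))
  obtain ⟨P, hP⟩ := (syl_inf h.syl hn).exists_sylow
  have h1 := Transfer.mem_commutator_of_hall_of_central (H := (P : Subgroup D))
    P.card_coprime_index (x := ⟨z, hz.2⟩) (hP ▸ hz)
    (mem_center_iff.2 fun g => Subtype.ext (mem_center_iff.1 (h.cen (h.c1 ⟨hz.1, hzc⟩)) g)) (by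
      have := perf_subgroupOf hD le_rfl
      rw [subgroupOf_self] at this
      rw [commutator_def, this]; trivial)
  have h2 : ⁅(P : Subgroup D), (P : Subgroup D)⁆ = ⊥ := by
    rw [commutator_eq_bot_iff_le_centralizer, hP]
    exact fun a ha b hb => Subtype.ext (hab ha b hb)
  rw [h2, mem_bot] at h1
  have h3 : z = 1 := congrArg Subtype.val h1
  exact hz1 (Subtype.ext h3)

theorem pow_inj {a b : ℕ} (h : p ^ a = p ^ b) : a = b := Nat.pow_right_injective hp.out.two_le h

theorem pow_le {a b : ℕ} (h : p ^ a ≤ p ^ b) : a ≤ b :=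
  (Nat.pow_le_pow_iff_right hp.out.one_lt).1 h

/-- a subgroup of index `p` in `T` is not normalised by a perfect group meeting `T` outside it -/
theorem CT.u (h : CT p T Z) (h4 : Z.relIndex T = p ^ 4)
    (hab : ∀ A ≤ T, A ≤ 𝐂[A] → Z.relIndex A ≤ p ^ 2) {E Y : Subgroup G} (hZE : Z ≤ E)
    (hET : E ≤ T) (hi : E.relIndex T = p) (hY : ⁅Y, Y⁆ = Y) (hn : Y ≤ 𝐍[E]) {y : G} (hyT : y ∈ T)
    (hyY : y ∈ Y) (hyE : y ∉ E) : False := by
  have := h.normal
  have := h.cyc
  have pp := hp.out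
  have hE : IsPGroup p E := h.syl.pgrp.to_le hET
  have h3 : Z.relIndex E = p ^ 3 := by
    have := relIndex_mul_relIndex Z E T hZE hET
    rw [hi, h4, pow_succ] at this
    exact Nat.eq_of_mul_eq_mul_right pp.pos this
  have split : ∀ A, Z ≤ A → A ≤ E → ∃ a b, Z.relIndex A = p ^ a ∧ A.relIndex E = p ^ b ∧
      a + b = 3 := fun A h1 h2 => by
    obtain ⟨a, ha⟩ := ex (hE.to_le h2) Z
    obtain ⟨b, hb⟩ := ex hE A
    have := relIndex_mul_relIndex Z A E h1 h2
    rw [ha, hb, h3, ← pow_add] at this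
    exact ⟨a, b, ha, hb, pow_inj this⟩
  have hnab : ¬ E ≤ 𝐂[E] := fun e => by
    have := hab E hET e
    rw [h3] at this
    have := pow_le this
    omega
  have hF : E ⊓ 𝐂[E] ≤ Z := by
    obtain ⟨a, b, ha, hb, e⟩ := split (E ⊓ 𝐂[E]) (le_inf hZE (h.cent E)) inf_le_left
    rcases (by omega : b = 0 ∨ b = 1 ∨ a = 0 ∨ a = 1) with rfl | rfl | rfl | rfl
    · exact absurd ((relIndex_eq_one.1 hb).trans inf_le_right) hnab
    · exact absurd (ab (by rwa [hb, pow_one]) inf_le_left inf_le_right) hnab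
    · exact relIndex_eq_one.1 ha
    · have h1 := step hY (le_normalizer_inf hn (le_normalizer_centralizer hn))
        (by rwa [ha, pow_one]) le_normalizer_of_normal (h.le_cent Y)
      have h2 : T ≤ 𝐂[E ⊓ 𝐂[E]] := gen (hi ▸ pp) hET (le_centralizer_iff.1 inf_le_right)
        (h1 hyY) hyT hyE
      exact (le_inf (inf_le_left.trans hET) (le_centralizer_iff.1 h2)).trans h.c1
  -- a central element of order `p` modulo `Z`
  obtain ⟨x, hxE, hxc, hxZ, hxp⟩ : ∃ x ∈ E, x ∈ centMod E Z ∧ x ∉ Z ∧ x ^ p ∈ Z := by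
    have h1 : E.map (QuotientGroup.mk' Z) ≠ ⊥ := fun e => by
      rw [Subgroup.map_eq_bot_iff, QuotientGroup.ker_mk'] at e
      exact hnab (e.trans (h.cent E))
    obtain ⟨⟨_, ⟨u, hu, rfl⟩, huc⟩, hu1⟩ := Subgroup.ne_bot_iff_exists_ne_one.1
      (inf_centralizer_ne_bot (hE.map _) (hE.map _) le_normalizer h1)
    have huZ : u ∉ Z := fun e => hu1 (Subtype.ext ((QuotientGroup.eq_one_iff u).2 e))
    have huC : u ∈ centMod E Z := mem_centMod_of_normal.2 fun g hg => by
      rw [← QuotientGroup.eq_one_iff, ← QuotientGroup.mk'_apply, map_commutatorElement,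
        commutatorElement_eq_one_iff_mul_comm]
      exact (huc _ (mem_map_of_mem _ hg)).symm
    obtain ⟨k, hk, hk'⟩ := Grp.PChain.exists_pow_notMem_pow_mem hE (Z.subgroupOf E)
      (u := ⟨u, hu⟩) huZ
    exact ⟨u ^ p ^ k, pow_mem hu _, pow_mem huC _, hk, hk'⟩
  set C := E ⊓ centralizer {x} with hC
  have hZC : Z ≤ C := le_inf hZE fun z hz =>
    mem_centralizer_singleton_iff.2 (mem_center_iff.1 (h.cen hz) x).symm
  have hxC : x ∈ C := ⟨hxE, mem_centralizer_singleton_iff.2 rfl⟩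
  obtain ⟨hC2, hCE⟩ : Z.relIndex C = p ^ 2 ∧ C.relIndex E = p := by
    obtain ⟨a, b, ha, hb, e⟩ := split C hZC inf_le_left
    have h1 := hom pp.ne_zero h.cen (K := E) (mem_centMod_of_normal.1 hxc) (h.cent E hxp)
    rw [← inf_relIndex_left, hb] at h1
    have h2 := pow_le (h1.trans (pow_one p).ge)
    have h3 : b ≠ 0 := by
      rintro rfl
      exact hxZ (hF ⟨hxE, fun g hg => mem_centralizer_singleton_iff.1
        (relIndex_eq_one.1 hb hg).2⟩)
    obtain rfl : b = 1 := by omega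
    obtain rfl : a = 2 := by omega
    exact ⟨ha, hb.trans (pow_one p)⟩
  have hA0 : Z ⊔ zpowers x ≤ C := sup_le hZC (zpowers_le.2 hxC)
  have hA1 : Z.relIndex (Z ⊔ zpowers x) = p := by
    rw [relIndex_sup_left, Grp.PChain.relIndex_zpowers_eq pp hxZ hxp]
  have hA2 : (Z ⊔ zpowers x).relIndex C = p := by
    have := relIndex_mul_relIndex Z _ C le_sup_left hA0
    rw [hA1, hC2, pow_two] at this
    exact Nat.eq_of_mul_eq_mul_left pp.pos this
  have hAC : Z ⊔ zpowers x ≤ 𝐂[C] := sup_le (h.cent C) (zpowers_le.2 fun g hg =>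
    mem_centralizer_singleton_iff.1 hg.2)
  have hCC : C ≤ 𝐂[C] := ab (hA2 ▸ pp) hA0 hAC
  have hEC : E ≤ 𝐍[C] := nrm hE inf_le_left hCE
  set A := E ⊓ centMod E Z with hA
  have hZA : Z ≤ A := le_inf hZE (le_centMod_of_normal.2
    ((commutator_eq_bot_iff_le_centralizer.2 (h.cent E)).le.trans bot_le))
  have hnA : 𝐍[E] ≤ 𝐍[A] := le_normalizer_inf le_rfl ((le_inf le_rfl le_normalizer_of_normal).trans
    (CommMod.inf_normalizer_le_normalizer_centMod E Z))
  by_cases hEA : E ≤ A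
  · obtain ⟨u, huE, huC⟩ : ∃ u ∈ E, u ∉ C := by
      by_contra! e
      rw [relIndex_eq_one.2 e] at hCE
      exact pp.one_lt.ne hCE
    have h1 := hom pp.ne_zero h.cen (K := C) (x := u)
      (fun k hk => mem_centMod_of_normal.1 (hEA huE).2 k hk.1)
      (hCC (hCE ▸ pow_mem_of_norm hEC huE))
    have h2 : C ⊓ centralizer {u} ≤ Z := fun c hc => by
      have h3 : E ≤ centralizer {c} := gen (hCE ▸ pp) inf_le_left
        (fun g hg => mem_centralizer_singleton_iff.2 (hCC hc.1 g hg))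
        (mem_centralizer_singleton_iff.2 (mem_centralizer_singleton_iff.1 hc.2).symm) huE huC
      exact hF ⟨hc.1.1, fun g hg => mem_centralizer_singleton_iff.1 (h3 hg)⟩
    have h3 := relIndex_le_of_le_left h2 (L := C) index_ne_zero_of_finite
    rw [inf_relIndex_left, hC2] at h3
    have := pow_le (h3.trans (h1.trans (pow_one p).ge))
    omega
  · obtain ⟨a, b, ha, hb, e⟩ := split A hZA inf_le_left
    have hxA : Z ⊔ zpowers x ≤ A := sup_le hZA (zpowers_le.2 ⟨hxE, hxc⟩)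
    have h1 : b ≠ 0 := by rintro rfl; exact hEA (relIndex_eq_one.1 hb)
    have h2 : b ≠ 1 := by
      rintro rfl
      refine hEA fun u hu => ?_
      by_contra huA
      have h3 : E ≤ centMod (zpowers u) Z := gen (by rwa [hb, pow_one]) inf_le_left
        (inf_le_right.trans (CommMod.centMod_anti (zpowers_le.2 hu) Z))
        (mem_centMod_of_normal.2 fun g hg => by
          obtain ⟨k, rfl⟩ := hg
          rw [commutatorElement_eq_one_iff_commute.2 (Commute.self_zpow u k)]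
          exact one_mem _) hu huA
      refine huA ⟨hu, mem_centMod_of_normal.2 fun g hg => ?_⟩
      rw [← commutatorElement_inv]
      exact inv_mem (mem_centMod_of_normal.1 (h3 hg) u (mem_zpowers u))
    have h3 : a ≠ 0 := by rintro rfl; exact hxZ (relIndex_eq_one.1 ha ⟨hxE, hxc⟩)
    obtain rfl : a = 1 := by omega
    have h5 : A = Z ⊔ zpowers x := le_antisymm (gen (by rwa [ha, pow_one]) hZA le_sup_left
      (mem_sup_right (mem_zpowers x)) ⟨hxE, hxc⟩ hxZ) hxA
    have h6 : C = E ⊓ 𝐂[A] := by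
      rw [h5, centralizer_sup, centralizer_zpowers, inf_eq_right.2 (h.le_cent _)]
    have s1 := step hY (hn.trans hnA) (by rwa [ha, pow_one]) le_normalizer_of_normal (h.le_cent Y)
    have s2 := step hY (A := C) (h6 ▸ le_normalizer_inf hn (le_normalizer_centralizer (hn.trans hnA)))
      (by rwa [h5, hA2]) (inf_le_left.trans (le_normalizer.trans hnA)) s1
    have s3 := step hY hn (hCE ▸ pp) hEC s2
    have s4 : T ≤ centralizer {y} := gen (hi ▸ pp) hET
      (fun g hg => mem_centralizer_singleton_iff.2 (s3 hyY g hg))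
      (mem_centralizer_singleton_iff.2 rfl) hyT hyE
    exact hyE (hZE (h.c1 ⟨hyT, fun g hg => mem_centralizer_singleton_iff.1 (s4 hg)⟩))

/-- no simple section normalised by `T` has cyclic non-trivial Sylow `p`-subgroups -/
theorem CT.main (h : CT p T Z) {X : Type*} [Group X] [Finite X] (π : G →* X)
    (hπ : Function.Surjective π) (hZ : Z ≤ π.ker) {L : Subgroup X} (hL : ⁅L, L⁆ = L)
    (hs : ∀ K ≤ L, L ≤ 𝐍[K] → K = ⊥ ∨ K = L) (hd : p ∣ Nat.card L)
    (hc : ∀ S ≤ L, IsPGroup p S → IsCyclic S) (hn : T.map π ≤ 𝐍[L]) : False := by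
  have := h.normal
  have pp := hp.out
  set W := L.comap π with hW
  set R := π.ker with hR
  set B := T ⊓ R with hB
  set C := centMod B Z with hC
  have hWL : W.map π = L := map_comap_eq_self_of_surjective hπ L
  have hTW : T ≤ 𝐍[W] := (map_le_iff_le_comap.1 hn).trans (le_normalizer_comap π)
  have hTB : T ≤ 𝐍[B] := le_normalizer_inf le_normalizer le_normalizer_of_normal
  have hBC : 𝐍[B] ≤ 𝐍[C] := (le_inf le_rfl le_normalizer_of_normal).trans
    (CommMod.inf_normalizer_le_normalizer_centMod B Z)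
  have hZB : Z ≤ B := le_inf h.le hZ
  have cov : ∀ K, K.map π = L → W ≤ res K ⊔ R := fun K hK =>
    le_res_sup (by rw [← comap_map_eq, map_commutator, hWL, hL]) le_normalizer_of_normal
      (by rw [← comap_map_eq, hK])
  have key : ∀ D ≤ W, W ≤ D ⊔ R → T ≤ 𝐍[D] → ¬ T ⊓ D ≤ R := fun D h1 h2 h3 h4 => by
    have h5 := (syl_inf h.syl h3).map π
    have h6 : D.map π = L := le_antisymm (hWL ▸ map_mono h1) (by
      rw [← hWL, map_le_iff_le_comap, comap_map_eq]; exact h2)
    rw [h6] at h5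
    exact h5.eq_bot_iff.1 ((Subgroup.map_eq_bot_iff _).2 h4) hd
  set N := W ⊓ 𝐍[B] with hN
  have hNL : N.map π = L := by
    have h1 : R ⊔ N = W := (syl_inf h.syl (le_normalizer_of_normal (H := R))).frattini_sup
      (ker_le_comap π L) le_normalizer_of_normal
    rw [← hWL, ← h1, Subgroup.map_sup, (Subgroup.map_eq_bot_iff R).2 le_rfl, bot_sup_eq]
  have hTN : T ≤ 𝐍[N] := le_normalizer_inf hTW (le_normalizer_normalizer hTB)
  rcases hs ((N ⊓ C).map π) (hNL ▸ map_mono inf_le_left) (hNL ▸ (map_mono (le_normalizer_inf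
    le_normalizer (inf_le_right.trans hBC))).trans (le_normalizer_map π)) with h0 | h0
  · rw [Subgroup.map_eq_bot_iff] at h0
    have hTD := norm_res hTN
    have hDB : res N ≤ 𝐍[B] := (res_le N).trans inf_le_right
    obtain ⟨y, ⟨hyT, hyD⟩, hyR⟩ := SetLike.not_le_iff_exists.1
      (key _ ((res_le N).trans inf_le_left) (cov N hNL) hTD)
    have hyC : y ∉ C := fun e => hyR (h0 ⟨res_le N hyD, e⟩)
    have hCB : 𝐂[B] ≤ C := le_centMod_of_normal.2
      ((commutator_eq_bot_iff_le_centralizer.2 le_rfl).le.trans bot_le)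
    obtain h1 | ⟨h4, hab⟩ := h.alt
    · exact hyC (mem_centMod_of_normal.2 fun b hb => h1 (commutator_mem_commutator hyT hb.1))
    have hBp := h.syl.pgrp.to_le (inf_le_left : B ≤ T)
    obtain ⟨a, ha⟩ := ex hBp Z
    obtain ⟨b, hb⟩ := ex h.syl.pgrp B
    have e := relIndex_mul_relIndex Z B T hZB inf_le_left
    rw [ha, hb, h4, ← pow_add] at e
    have e := pow_inj e
    rcases (by omega : a = 0 ∨ a = 1 ∨ b = 0 ∨ b = 1 ∨ a = 2) with rfl | rfl | rfl | rfl | rfl
    · exact hyC (hCB (centralizer_anti (relIndex_eq_one.1 ha) (h.le_cent T hyT)))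
    · exact hyC (hCB (step (res_perf N) hDB (by rwa [ha, pow_one]) le_normalizer_of_normal
        (h.le_cent _) hyD))
    · exact hyR (relIndex_eq_one.1 hb hyT).2
    · exact h.u h4 hab hZB inf_le_left (hb.trans (pow_one p)) (res_perf N) hDB hyT hyD
        fun e => hyR e.2
    have hCN : C ≤ 𝐍[B] := le_normalizer_iff_commutator_le_right.2
      ((CommMod.commutator_centMod_le B Z).trans hZB)
    have hE : IsSyl p (T ⊓ C) C := (h.syl.mono hTB le_top).inf_of_le hCN hBC
    have hi : (T ⊓ C).relIndex T = p := by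
      obtain ⟨c, hc⟩ := ex h.syl.pgrp (T ⊓ C)
      have h1 := FT.R2.relIndex_centralizer_le_of_card_sq
        (h.syl.pgrp.map (QuotientGroup.mk' Z)) (E := B.map (QuotientGroup.mk' Z))
        (by rw [← relIndex_ker, QuotientGroup.ker_mk', ha])
        ((map_mono hTB).trans (le_normalizer_map _))
      have h2 : (𝐂[B.map (QuotientGroup.mk' Z)]).comap (QuotientGroup.mk' Z) ≤ C := fun g hg =>
        mem_centMod_of_normal.2 fun b hb => by
          rw [← QuotientGroup.eq_one_iff, ← QuotientGroup.mk'_apply, map_commutatorElement,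
            commutatorElement_eq_one_iff_mul_comm]
          exact (hg _ (mem_map_of_mem _ hb)).symm
      have h3 := relIndex_le_of_le_left h2 (L := T) index_ne_zero_of_finite
      rw [relIndex_comap, ← inf_relIndex_left, hc] at h3
      have h5 := pow_le (h3.trans (h1.trans (pow_one p).ge))
      have h6 : c ≠ 0 := by rintro rfl; exact hyC (relIndex_eq_one.1 hc hyT).2
      obtain rfl : c = 1 := by omega
      exact hc.trans (pow_one p)
    set H := (res N ⊔ C) ⊓ 𝐍[T ⊓ C] with hH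
    have hX : res N ⊔ C ≤ 𝐍[C] := sup_le (hDB.trans hBC) le_normalizer
    have h1 : C ⊔ H = res N ⊔ C := hE.frattini_sup le_sup_right hX
    have h2 : res N ≤ res H ⊔ C := le_res_sup ((res_perf N).ge.trans le_sup_left)
      (inf_le_left.trans hX) (by rw [sup_comm, h1]; exact le_sup_left)
    have hTC := hTB.trans hBC
    have hTY : T ≤ 𝐍[res H] := norm_res (le_normalizer_inf (le_normalizer_sup hTD hTC)
      (le_normalizer_normalizer (le_normalizer_inf le_normalizer hTC)))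
    have hYC : res H ≤ 𝐍[C] := (res_le H).trans (inf_le_left.trans hX)
    by_cases h3 : T ⊓ res H ≤ C
    · have h5 : IsSyl p (T ⊓ C) (res H ⊔ C) := isSyl_of_not_dvd_relIndex hE.pgrp
        (inf_le_right.trans le_sup_right) (by
          rw [← relIndex_mul_relIndex _ C _ inf_le_right le_sup_right,
            relIndex_sup_of_le_normalizer hYC, pp.dvd_mul]
          exact not_or.2 ⟨hE.not_dvd_relIndex, fun e => (syl_inf h.syl hTY).not_dvd_relIndex
            (e.trans (relIndex_dvd_of_le_left _ h3))⟩)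
      exact hyC (h5.max (T ⊓ (res H ⊔ C)) (h.syl.pgrp.to_le inf_le_left)
        (inf_le_inf_left T le_sup_right) inf_le_right ⟨hyT, h2 hyD⟩).2
    · obtain ⟨u, ⟨huT, huY⟩, huC⟩ := SetLike.not_le_iff_exists.1 h3
      exact h.u h4 hab (le_inf h.le ((h.cent B).trans hCB)) inf_le_left hi (res_perf H)
        ((res_le H).trans inf_le_right) huT huY fun e => huC e.2
  · have hTD := norm_res (le_normalizer_inf hTN (hTB.trans hBC))
    set D := res (N ⊓ C) with hD
    have hDW : D ≤ W := (res_le _).trans (inf_le_left.trans inf_le_left)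
    have hDB : D ≤ 𝐂[B] := cent_of_perf (res_perf _) (by
      rw [commutator_comm]
      exact le_centMod_of_normal.1 ((res_le _).trans inf_le_right)) (h.le_cent D)
    have := hc ((T ⊓ D).map π) (hWL ▸ map_mono (inf_le_right.trans hDW))
      ((h.syl.pgrp.to_le inf_le_left).map π)
    have hab : T ⊓ D ≤ 𝐂[T ⊓ D] := fun a ha b hb => congrArg Subtype.val
      (((π.subgroupMap (T ⊓ D)).isMulCommutative_of_isCyclic_of_ker_le_center (fun x hx =>
        mem_center_iff.2 fun g => Subtype.ext (hDB g.2.2 x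
          ⟨x.2.1, congrArg Subtype.val (MonoidHom.mem_ker.1 hx)⟩).symm)).1.1 ⟨b, hb⟩ ⟨a, ha⟩)
    exact key D hDW (cov _ h0) hTD ((h.noD (res_perf _) hTD hab).le.trans bot_le)

end Cfsg.Agent.FRS
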